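import Groth.Agent.Coherent.CechCompare
import Mathlib.Algebra.Homology.ShortComplex.ModuleCat

/-!
# `H¹` of the Čech complex of a cover with two members
-/

set_option autoImplicit false
set_option backward.isDefEq.respectTransparency false

universe u

open CategoryTheory CategoryTheory.Limits AlgebraicGeometry Opposite TopologicalSpace
open Groth.Agent.Coherent Groth.Agent.Coherent.CohBC Groth.Agent.SiteCoh

namespace Groth.Agent.CohDer1.DefoCech

variable (k : Type u) [CommRing k] {X : Scheme.{u}} [X.Over (Spec (CommRingCat.of k))]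
variable (U : ULift.{u} (Fin 2) → X.Opens) (M : X.Modules)

abbrev i₀ : ULift.{u} (Fin 2) := ⟨0⟩
abbrev i₁ : ULift.{u} (Fin 2) := ⟨1⟩

/-- the double intersection -/
noncomputable abbrev U01 : X.Opens := cinter U ![i₀, i₁]

theorem U01_le0 : U01 U ≤ U i₀ := iInf_le (fun j => U (![i₀, i₁] j)) 0

theorem U01_le1 : U01 U ≤ U i₁ := iInf_le (fun j => U (![i₀, i₁] j)) 1

theorem le_U01 : U i₀ ⊓ U i₁ ≤ U01 U := le_iInf fun j => by fin_cases j <;> simp

/-- the sign of an ordered pair -/
def sgn (a b : ULift.{u} (Fin 2)) : ℤ := (b.down : ℕ) - (a.down : ℕ)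

theorem eq_i (i : ULift.{u} (Fin 2)) : i = i₀ ∨ i = i₁ := by
  rcases i with ⟨i⟩
  fin_cases i
  · exact Or.inl rfl
  · exact Or.inr rfl

theorem le_U01_of_sgn {p : ℕ} {a : Fin (p + 1) → ULift.{u} (Fin 2)} (i j : Fin (p + 1))
    (h : sgn (a i) (a j) ≠ 0) : cinter U a ≤ U01 U := by
  have hi : cinter U a ≤ U (a i) := iInf_le (fun l => U (a l)) i
  have hj : cinter U a ≤ U (a j) := iInf_le (fun l => U (a l)) j
  refine le_trans ?_ (le_U01 U)
  rcases eq_i (a i) with e | e <;> rcases eq_i (a j) with e' | e' <;> rw [e] at hi <;> rw [e'] at hj <;>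
    rw [e, e'] at h
  · exact absurd (sub_self _) h
  · exact le_inf hi hj
  · exact le_inf hj hi
  · exact absurd (sub_self _) h

open Classical in
/-- the cochain with value `c` on `(0, 1)` -/
noncomputable def cochain (c : Γ(M, U01 U)) (a : Fin 2 → ULift.{u} (Fin 2)) : Γ(M, cinter U a) :=
  if h : cinter U a ≤ U01 U then sgn (a 0) (a 1) • resM M h c else 0

theorem resM_cochain (c : Γ(M, U01 U)) (a : Fin 2 → ULift.{u} (Fin 2)) {W : X.Opens} (hW : W ≤ cinter U a)
    (h : W ≤ U01 U) : resM M hW (cochain U M c a) = sgn (a 0) (a 1) • resM M h c := by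
  by_cases ha : cinter U a ≤ U01 U
  · rw [cochain, dif_pos ha, map_zsmul, resM_resM]
  · rw [cochain, dif_neg ha, map_zero]
    have : sgn (a 0) (a 1) = 0 := by_contra fun hne => ha (le_U01_of_sgn U 0 1 hne)
    rw [this, zero_zsmul]

theorem cochain_01 (c : Γ(M, U01 U)) : cochain U M c ![i₀, i₁] = c := by
  rw [cochain, dif_pos le_rfl, resM_refl]
  exact one_zsmul c

theorem cochain_add (c d : Γ(M, U01 U)) : cochain U M (c + d) = cochain U M c + cochain U M d := by
  funext a
  show _ = cochain U M c a + cochain U M d a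
  unfold cochain
  split
  · rw [map_add, zsmul_add]
  · rw [add_zero]

theorem cxD_cochain (c : Γ(M, U01 U)) : cxD k U M 1 (cochain U M c) = 0 := by
  funext a
  show ∑ j : Fin 3, (-1 : ℤ) ^ (j : ℕ) • resM M (cinter_face U a j) (cochain U M c (a ∘ j.succAbove)) = 0
  by_cases h : cinter U a ≤ U01 U
  · simp only [Fin.sum_univ_three, resM_cochain U M c _ _ h]
    have e : ∀ (j : Fin 3), sgn ((a ∘ j.succAbove) 0) ((a ∘ j.succAbove) 1) =
        sgn (a (j.succAbove 0)) (a (j.succAbove 1)) := fun j => rfl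
    simp only [e]
    show (1 : ℤ) • sgn (a 1) (a 2) • resM M h c + (-1 : ℤ) ^ 1 • sgn (a 0) (a 2) • resM M h c +
      (-1 : ℤ) ^ 2 • sgn (a 0) (a 1) • resM M h c = 0
    simp only [smul_smul, ← add_smul, sgn]
    rw [show ((1 : ℤ) * (((a 2).down : ℕ) - ((a 1).down : ℕ)) + (-1 : ℤ) ^ 1 * (((a 2).down : ℕ) - ((a 0).down : ℕ)) +
      (-1 : ℤ) ^ 2 * (((a 1).down : ℕ) - ((a 0).down : ℕ))) = 0 by ring, zero_smul]
  · refine Finset.sum_eq_zero fun j _ => ?_
    have hz : cochain U M c (a ∘ j.succAbove) = 0 := by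
      by_cases hf : cinter U (a ∘ j.succAbove) ≤ U01 U
      · exact absurd ((cinter_face U a j).trans hf) h
      · rw [cochain, dif_neg hf]
    rw [hz, map_zero, smul_zero]

theorem cxD_one_apply (x : ∀ a : Fin 2 → ULift.{u} (Fin 2), Γ(M, cinter U a))
    (a : Fin 3 → ULift.{u} (Fin 2)) :
    cxD k U M 1 x a = resM M (cinter_face U a 0) (x (a ∘ (0 : Fin 3).succAbove)) +
      -resM M (cinter_face U a 1) (x (a ∘ (1 : Fin 3).succAbove)) +
      resM M (cinter_face U a 2) (x (a ∘ (2 : Fin 3).succAbove)) := by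
  show ∑ j : Fin 3, (-1 : ℤ) ^ (j : ℕ) • resM M (cinter_face U a j) (x (a ∘ j.succAbove)) = _
  rw [Fin.sum_univ_three]
  simp

/-- a cochain is evaluated through restriction -/
theorem res_congr (x : ∀ a : Fin 2 → ULift.{u} (Fin 2), Γ(M, cinter U a)) {a b : Fin 2 → ULift.{u} (Fin 2)}
    (e : a = b) {W : X.Opens} (h : W ≤ cinter U a) (h' : W ≤ cinter U b) : resM M h (x a) = resM M h' (x b) := by
  subst e; rfl

/-- a cocycle vanishing on `(0, 1)` vanishes -/
theorem eq_zero_of_cocycle (x : ∀ a : Fin 2 → ULift.{u} (Fin 2), Γ(M, cinter U a))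
    (hd : cxD k U M 1 x = 0) (h01 : x ![i₀, i₁] = 0) : x = 0 := by
  have hdiag : ∀ i, x ![i, i] = 0 := fun i => by
    have h := congrFun hd ![i, i, i]
    rw [cxD_one_apply] at h
    have hW : cinter U ![i, i, i] ≤ cinter U ![i, i] :=
      le_iInf fun j => (iInf_le (fun l => U (![i, i, i] l)) 0).trans (by fin_cases j <;> exact le_rfl)
    rw [res_congr U M x (b := ![i, i]) (by funext j; fin_cases j <;> rfl) _ hW,
      res_congr U M x (b := ![i, i]) (a := ![i, i, i] ∘ (1 : Fin 3).succAbove) (by funext j; fin_cases j <;> rfl) _ hW,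
      res_congr U M x (b := ![i, i]) (a := ![i, i, i] ∘ (2 : Fin 3).succAbove) (by funext j; fin_cases j <;> rfl) _ hW,
      add_neg_cancel, zero_add] at h
    refine (resM_bijective_of_eq M hW (le_antisymm ?_ hW)).1 (h.trans (map_zero _).symm)
    exact le_iInf fun j => (iInf_le (fun l => U (![i, i] l)) 0).trans (by fin_cases j <;> exact le_rfl)
  have h10 : x ![i₁, i₀] = 0 := by
    have h := congrFun hd ![i₀, i₁, i₀]
    rw [cxD_one_apply] at h
    have hW : cinter U ![i₀, i₁, i₀] ≤ cinter U ![i₁, i₀] :=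
      le_iInf fun j => by
        fin_cases j
        · exact iInf_le (fun l => U (![i₀, i₁, i₀] l)) 1
        · exact iInf_le (fun l => U (![i₀, i₁, i₀] l)) 2
    rw [res_congr U M x (b := ![i₁, i₀]) (by funext j; fin_cases j <;> rfl) _ hW,
      res_congr U M x (b := ![i₀, i₀]) (a := ![i₀, i₁, i₀] ∘ (1 : Fin 3).succAbove)
        (by funext j; fin_cases j <;> rfl) _ (le_iInf fun j => by
          fin_cases j <;> exact iInf_le (fun l => U (![i₀, i₁, i₀] l)) 0),
      res_congr U M x (b := ![i₀, i₁]) (a := ![i₀, i₁, i₀] ∘ (2 : Fin 3).succAbove)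
        (by funext j; fin_cases j <;> rfl) _ (le_iInf fun j => by
          fin_cases j
          · exact iInf_le (fun l => U (![i₀, i₁, i₀] l)) 0
          · exact iInf_le (fun l => U (![i₀, i₁, i₀] l)) 1),
      hdiag, h01, map_zero, map_zero, neg_zero, add_zero, add_zero] at h
    refine (resM_bijective_of_eq M hW (le_antisymm ?_ hW)).1 (h.trans (map_zero _).symm)
    refine le_iInf fun j => ?_
    fin_cases j
    · exact iInf_le (fun l => U (![i₁, i₀] l)) 1
    · exact iInf_le (fun l => U (![i₁, i₀] l)) 0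
    · exact iInf_le (fun l => U (![i₁, i₀] l)) 1
  funext a
  obtain ⟨p, q, rfl⟩ : ∃ p q, a = ![p, q] := ⟨a 0, a 1, by funext j; fin_cases j <;> rfl⟩
  rcases eq_i p with rfl | rfl <;> rcases eq_i q with rfl | rfl
  · exact hdiag _
  · exact h01
  · exact h10
  · exact hdiag _

theorem cxD_zero_apply (y : ∀ a : Fin 1 → ULift.{u} (Fin 2), Γ(M, cinter U a)) :
    cxD k U M 0 y ![i₀, i₁] =
      resM M (show U01 U ≤ cinter U ![i₁] from le_iInf fun j => by fin_cases j; exact U01_le1 U) (y ![i₁]) -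
        resM M (show U01 U ≤ cinter U ![i₀] from le_iInf fun j => by fin_cases j; exact U01_le0 U) (y ![i₀]) := by
  show ∑ j : Fin 2, (-1 : ℤ) ^ (j : ℕ) • resM M (cinter_face U ![i₀, i₁] j) (y (![i₀, i₁] ∘ j.succAbove)) = _
  rw [Fin.sum_univ_two]
  have key : ∀ {a b : Fin 1 → ULift.{u} (Fin 2)} (e : a = b) {W : X.Opens} (h : W ≤ cinter U a) (h' : W ≤ cinter U b),
      resM M h (y a) = resM M h' (y b) := by
    intro a b e W h h'; subst e; rfl
  rw [key (b := ![i₁]) (by funext j; fin_cases j; rfl) _ (le_iInf fun j => by fin_cases j; exact U01_le1 U),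
    key (a := ![i₀, i₁] ∘ (1 : Fin 2).succAbove) (b := ![i₀]) (by funext j; fin_cases j; rfl) _
      (le_iInf fun j => by fin_cases j; exact U01_le0 U)]
  simp [sub_eq_add_neg]

/-- `Δ(b₀, b₁) = b₁ - b₀` -/
def IsCob (c : Γ(M, U01 U)) : Prop :=
  ∃ (b₀ : Γ(M, U i₀)) (b₁ : Γ(M, U i₁)), c = resM M (U01_le1 U) b₁ - resM M (U01_le0 U) b₀

/-- the short complex computing `H¹` -/
noncomputable abbrev S1 : ShortComplex (ModuleCat.{u} k) := (cxA k U M).sc' 0 1 2

/-- the class of the cochain with value `c` -/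
noncomputable def cls : Γ(M, U01 U) →+ (S1 k U M).moduleCatLeftHomologyData.H :=
  AddMonoidHom.mk' (fun c => (S1 k U M).moduleCatLeftHomologyData.π
      (⟨cochain U M c,
        (LinearMap.congr_fun (congrArg ModuleCat.Hom.hom (cxA_d k U M 1)) (cochain U M c)).trans
          (cxD_cochain k U M c)⟩ : LinearMap.ker (S1 k U M).g.hom))
    fun c d => by
      rw [← map_add]
      refine congrArg _ (Subtype.ext (cochain_add U M c d))

theorem cls_surjective : Function.Surjective (cls k U M) := fun z => by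
  obtain ⟨⟨x', hx⟩, rfl⟩ := Submodule.Quotient.mk_surjective _ z
  let x : ∀ a : Fin 2 → ULift.{u} (Fin 2), Γ(M, cinter U a) := x'
  refine ⟨x ![i₀, i₁], congrArg _ (Subtype.ext ?_)⟩
  have hx' : cxD k U M 1 x = 0 := by
    exact (LinearMap.congr_fun (congrArg ModuleCat.Hom.hom (cxA_d k U M 1)) x).symm.trans hx
  have h := eq_zero_of_cocycle k U M (cochain U M (x ![i₀, i₁]) - x)
    (by rw [map_sub, cxD_cochain, hx', sub_zero])
    (by show cochain U M (x ![i₀, i₁]) ![i₀, i₁] - x ![i₀, i₁] = 0; rw [cochain_01, sub_self])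
  exact sub_eq_zero.1 h

theorem cls_eq_zero_iff (c : Γ(M, U01 U)) : cls k U M c = 0 ↔ IsCob U M c := by
  constructor
  · intro h
    obtain ⟨y, hy⟩ := (Submodule.Quotient.mk_eq_zero _).1 h
    have hy' : cxD k U M 0 y = cochain U M c := by
      exact (LinearMap.congr_fun (congrArg ModuleCat.Hom.hom (cxA_d k U M 0)) y).symm.trans (congrArg Subtype.val hy)
    have hc := congrFun hy' ![i₀, i₁]
    rw [cxD_zero_apply, cochain_01] at hc
    refine ⟨resM M (show U i₀ ≤ cinter U ![i₀] from le_iInf fun j => by fin_cases j; exact le_rfl) (y ![i₀]),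
      resM M (show U i₁ ≤ cinter U ![i₁] from le_iInf fun j => by fin_cases j; exact le_rfl) (y ![i₁]), ?_⟩
    rw [resM_resM, resM_resM]
    exact hc.symm
  · rintro ⟨b₀, b₁, rfl⟩
    let b : ∀ i, Γ(M, U i) := fun i => match i with
      | ⟨0⟩ => b₀
      | ⟨1⟩ => b₁
    let y : ∀ a : Fin 1 → ULift.{u} (Fin 2), Γ(M, cinter U a) := fun a =>
      resM M (iInf_le (fun l => U (a l)) 0) (b (a 0))
    refine (Submodule.Quotient.mk_eq_zero _).2 ⟨y, Subtype.ext ?_⟩
    refine (LinearMap.congr_fun (congrArg ModuleCat.Hom.hom (cxA_d k U M 0)) y).trans ?_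
    refine sub_eq_zero.1 (eq_zero_of_cocycle k U M
      (cxD k U M 0 y - cochain U M (resM M (U01_le1 U) b₁ - resM M (U01_le0 U) b₀)) ?_ ?_)
    · rw [map_sub, cxD_cochain, sub_zero]
      exact LinearMap.congr_fun (cxD_comp k U M 0) y
    · show cxD k U M 0 y ![i₀, i₁] - cochain U M _ ![i₀, i₁] = 0
      rw [cxD_zero_apply, cochain_01, resM_resM, resM_resM]
      exact sub_self _

/-- the Čech `H¹` -/
noncomputable def cechEquiv : (Cech.cx (E := X.Opens) M.presheaf U).homology 1 ≃+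
    (S1 k U M).moduleCatLeftHomologyData.H :=
  (cechHomologyEquiv k U M 1).trans
    ((((cxA k U M).homologyIsoSc' 0 1 2 (by simp) (by simp)) ≪≫
      (S1 k U M).moduleCatHomologyIso).toLinearEquiv.toAddEquiv)

/-- the map onto Čech `H¹` -/
noncomputable def cls' : Γ(M, U01 U) →+ (Cech.cx (E := X.Opens) M.presheaf U).homology 1 :=
  (cechEquiv k U M).symm.toAddMonoidHom.comp (cls k U M)

theorem cls'_surjective : Function.Surjective (cls' k U M) :=
  (cechEquiv k U M).symm.surjective.comp (cls_surjective k U M)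

theorem cls'_eq_zero_iff (c : Γ(M, U01 U)) : cls' k U M c = 0 ↔ IsCob U M c :=
  ((cechEquiv k U M).symm.map_eq_zero_iff).trans (cls_eq_zero_iff k U M c)

end Groth.Agent.CohDer1.DefoCech
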