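import Groth.Agent.Coherent.InternalHom
import Groth.Agent.Coherent.ModExt
import Groth.Agent.Coherent.FreeSections
import Groth.Agent.Coherent.QcohLocal
import Groth.Agent.Coherent.FiniteType
import Groth.Agent.Et18.ExtRealize
import Groth.Agent.MeroLib.Torsion
import Groth.Agent.CAlgH3.LocFreeFactor
import Groth.Agent.DCat.JShriek
import Mathlib.Algebra.Homology.DerivedCategory.Ext.ExactSequences

/-!
# The Mayer-Vietoris sequence of a two open cover and `Ext¹(E, E)`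
-/

set_option autoImplicit false
set_option backward.isDefEq.respectTransparency false
set_option backward.isDefEq.respectTransparency.types false

universe u

open CategoryTheory CategoryTheory.Limits CategoryTheory.Abelian AlgebraicGeometry Opposite TopologicalSpace
open Groth.Agent.Coherent

namespace Groth.Agent.CohDer1.DefoCech

variable {X : Scheme.{u}}

/-- `j_* j^* M` -/
noncomputable abbrev pr (U : X.Opens) (M : X.Modules) : X.Modules :=
  (Scheme.Modules.pushforward U.ι).obj (M.restrict U.ι)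

/-- the trace of `W` on `U` -/
abbrev im (U W : X.Opens) : X.Opens := U.ι ''ᵁ (U.ι ⁻¹ᵁ W)

theorem im_eq (U W : X.Opens) : im U W = U ⊓ W := by
  exact (Scheme.Hom.image_preimage_eq_opensRange_inf U.ι W).trans (by rw [Scheme.Opens.opensRange_ι])

theorem im_le (U W : X.Opens) : im U W ≤ W := (im_eq U W).trans_le inf_le_right

theorem im_le_left (U W : X.Opens) : im U W ≤ U := (im_eq U W).trans_le inf_le_left

theorem le_im {U W V : X.Opens} (h : V ≤ U) (h' : V ≤ W) : V ≤ im U W := (le_inf h h').trans_eq (im_eq U W).symm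

theorem im_mono {U U' W W' : X.Opens} (h : U' ≤ U) (h' : W' ≤ W) : im U' W' ≤ im U W :=
  le_im ((im_le_left U' W').trans h) ((im_le U' W').trans h')

/-- a section of `pr U M` as a section of `M` -/
def val {U W : X.Opens} {M : X.Modules} (x : Γ(pr U M, W)) : Γ(M, im U W) := x

/-- a section of `M` as a section of `pr U M` -/
def mkSec {U W : X.Opens} {M : X.Modules} (x : Γ(M, im U W)) : Γ(pr U M, W) := x

theorem val_injective {U W : X.Opens} {M : X.Modules} {x y : Γ(pr U M, W)} (h : val x = val y) : x = y := h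

theorem val_mkSec {U W : X.Opens} {M : X.Modules} (x : Γ(M, im U W)) :
    val (mkSec x : Γ(pr U M, W)) = x := rfl

theorem pr_smul {U W : X.Opens} {M : X.Modules} (r : Γ(X, W)) (x : Γ(pr U M, W)) :
    val (r • x) = X.presheaf.map (homOfLE (im_le U W)).op r • val x := by
  show ((U.ι.appIso (U.ι ⁻¹ᵁ W)).inv ((U.ι.app W) r)) • val x = _
  rw [Scheme.Opens.ι_appIso, Scheme.Opens.ι_app]
  rfl

theorem val_res {U : X.Opens} {M : X.Modules} {W W' : X.Opens} (h : W' ≤ W) (x : Γ(pr U M, W)) :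
    val (resM (pr U M) h x) = resM M (im_mono le_rfl h) (val x) := rfl

/-- restriction of the open -/
noncomputable def rmap (M : X.Modules) {U V : X.Opens} (h : V ≤ U) : pr U M ⟶ pr V M :=
  ⟨PresheafOfModules.homMk
    { app := fun W => AddCommGrpCat.ofHom (AddMonoidHom.mk'
        (fun x : Γ(pr U M, W.unop) => mkSec (resM M (im_mono h le_rfl) (val x)))
        (fun x y => map_add (resM M (im_mono h (le_refl W.unop))) (val x) (val y)))
      naturality := fun W W' f => ConcreteCategory.hom_ext _ _ fun x => by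
        rw [show f = (homOfLE (leOfHom f.unop)).op from Subsingleton.elim _ _]
        show resM M (im_mono h le_rfl) (resM M (im_mono le_rfl (leOfHom f.unop)) (val x)) =
          resM M (im_mono le_rfl (leOfHom f.unop)) (resM M (im_mono h le_rfl) (val x))
        rw [resM_resM, resM_resM] }
    fun W r x => by
      show resM M (im_mono h le_rfl) (val ((show Γ(X, W.unop) from r) • (show Γ(pr U M, W.unop) from x))) =
        val ((show Γ(X, W.unop) from r) • mkSec (resM M (im_mono h le_rfl) (val x)))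
      rw [pr_smul, pr_smul, resM_smul, ← ConcreteCategory.comp_apply, ← Functor.map_comp]
      rfl⟩

theorem val_rmap (M : X.Modules) {U V : X.Opens} (h : V ≤ U) {W : X.Opens} (x : Γ(pr U M, W)) :
    val ((rmap M h).app W x) = resM M (im_mono h le_rfl) (val x) := rfl

/-- restriction to `U` -/
noncomputable def unit (M : X.Modules) (U : X.Opens) : M ⟶ pr U M :=
  (Scheme.Modules.restrictAdjunction U.ι).unit.app M

theorem val_unit (M : X.Modules) (U : X.Opens) {W : X.Opens} (a : Γ(M, W)) :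
    val ((unit M U).app W a) = resM M (im_le U W) a := by
  show ((Scheme.Modules.restrictAdjunction U.ι).unit.app M).app W a = _
  rw [Scheme.Modules.restrictAdjunction_unit_app_app]
  rfl

section Psi

variable (E : X.Modules)

/-- the morphism attached to a local endomorphism -/
noncomputable def psiHom {U : X.Opens} (φ : locHom E E U) : E ⟶ pr U E :=
  ⟨PresheafOfModules.homMk
    { app := fun W => AddCommGrpCat.ofHom (AddMonoidHom.mk'
        (fun a : Γ(E, W.unop) =>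
          mkSec (W := W.unop) (ev φ (im U W.unop) (im_le_left _ _) (resM E (im_le _ _) a)))
        (fun a b => (congrArg (ev φ (im U W.unop) (im_le_left _ _)) (map_add _ a b)).trans
          (map_add (φ.1 (im U W.unop) (im_le_left _ _)) _ _)))
      naturality := fun W W' f => ConcreteCategory.hom_ext _ _ fun a => by
        rw [show f = (homOfLE (leOfHom f.unop)).op from Subsingleton.elim _ _]
        show ev φ (im U W'.unop) _ (resM E (im_le _ _) (resM E (leOfHom f.unop) a)) =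
          resM E (im_mono le_rfl (leOfHom f.unop)) (ev φ (im U W.unop) _ (resM E (im_le _ _) a))
        rw [ev_res, resM_resM, resM_resM] }
    fun W r a => by
      show ev φ (im U W.unop) _ (resM E (im_le _ _) ((show Γ(X, W.unop) from r) • (show Γ(E, W.unop) from a))) =
        val ((show Γ(X, W.unop) from r) •
          mkSec (W := W.unop) (ev φ (im U W.unop) (im_le_left _ _) (resM E (im_le _ _) a)))
      rw [pr_smul, resM_smul, ev_smul_arg]
      rfl⟩

theorem val_psiHom {U : X.Opens} (φ : locHom E E U) {W : X.Opens} (a : Γ(E, W)) :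
    val ((psiHom E φ).app W a) = ev φ (im U W) (im_le_left _ _) (resM E (im_le _ _) a) := rfl

/-- Morphisms `E ⟶ j_* j^* E` are the local endomorphisms. -/
noncomputable def psi (U : X.Opens) : locHom E E U ≃+ (E ⟶ pr U E) where
  toFun := psiHom E
  invFun g := ⟨fun W hW => AddMonoidHom.mk' (fun a => resM E (le_im hW le_rfl) (val (g.app W a)))
      (fun a b => (congrArg (resM E (le_im hW le_rfl)) ((congrArg val (map_add (g.app W).hom a b)))).trans
        (map_add (resM E (le_im hW le_rfl)) (val (g.app W a)) (val (g.app W b)))),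
    fun W hW r a => by
      show resM E _ (val (g.app W (r • a))) = r • resM E _ (val (g.app W a))
      rw [Scheme.Modules.Hom.app_smul, pr_smul, resM_smul, ← ConcreteCategory.comp_apply, ← Functor.map_comp]
      rw [show ((homOfLE (im_le U W)).op ≫ (homOfLE (le_im hW le_rfl)).op) = 𝟙 (op W) from Subsingleton.elim _ _,
        CategoryTheory.Functor.map_id]
      rfl,
    fun W W' hW h a => by
      show resM E h (resM E _ (val (g.app W a))) = resM E _ (val (g.app W' (resM E h a)))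
      rw [app_resM, val_res, resM_resM, resM_resM]⟩
  left_inv φ := locHom_ext fun W hW a => by
    show resM E _ (ev φ (im U W) _ (resM E _ a)) = ev φ W hW a
    rw [ev_res, resM_resM, resM_refl]
  right_inv g := Scheme.Modules.hom_ext _ _ fun W => ConcreteCategory.hom_ext _ _ fun a => by
    show resM E (le_im (im_le_left U W) le_rfl) (val (g.app (im U W) (resM E (im_le U W) a))) = val (g.app W a)
    rw [app_resM, val_res, resM_resM]
    exact resM_refl E _
  map_add' φ ψ := Scheme.Modules.hom_ext _ _ fun W => ConcreteCategory.hom_ext _ _ fun a => rfl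

theorem psi_res {U V : X.Opens} (h : V ≤ U) (φ : locHom E E U) :
    psi E V (locHomRes E E h φ) = psi E U φ ≫ rmap E h :=
  Scheme.Modules.hom_ext _ _ fun W => ConcreteCategory.hom_ext _ _ fun a => by
    show ev φ (im V W) _ (resM E (im_le V W) a) = resM E (im_mono h le_rfl) (ev φ (im U W) _ (resM E (im_le U W) a))
    rw [ev_res, resM_resM]

end Psi

section MV

variable (E : X.Modules) (U₀ U₁ U₀₁ : X.Opens) (h₀ : U₀₁ ≤ U₀) (h₁ : U₀₁ ≤ U₁)

noncomputable def mvG : (pr U₀ E ⊞ pr U₁ E) ⟶ pr U₀₁ E := biprod.desc (-rmap E h₀) (rmap E h₁)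

noncomputable def mvF : E ⟶ pr U₀ E ⊞ pr U₁ E := biprod.lift (unit E U₀) (unit E U₁)

theorem mv_zero : mvF E U₀ U₁ ≫ mvG E U₀ U₁ U₀₁ h₀ h₁ = 0 := by
  rw [mvF, mvG, biprod.lift_desc, Preadditive.comp_neg, neg_add_eq_zero]
  refine Scheme.Modules.hom_ext _ _ fun W => ConcreteCategory.hom_ext _ _ fun a => ?_
  show resM E (im_mono h₀ le_rfl) (val ((unit E U₀).app W a)) = resM E (im_mono h₁ le_rfl) (val ((unit E U₁).app W a))
  rw [val_unit, val_unit, resM_resM, resM_resM]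

/-- The Mayer-Vietoris sequence. -/
noncomputable def mv : ShortComplex X.Modules :=
  ShortComplex.mk _ _ (mv_zero E U₀ U₁ U₀₁ h₀ h₁)

theorem biprod_sec_ext {A B : X.Modules} {W : X.Opens} {x y : Γ(A ⊞ B, W)}
    (e₁ : (biprod.fst : A ⊞ B ⟶ A).app W x = (biprod.fst : A ⊞ B ⟶ A).app W y)
    (e₂ : (biprod.snd : A ⊞ B ⟶ B).app W x = (biprod.snd : A ⊞ B ⟶ B).app W y) : x = y := by
  have key : ∀ z : Γ(A ⊞ B, W), z = (biprod.inl : A ⟶ A ⊞ B).app W ((biprod.fst : A ⊞ B ⟶ A).app W z) +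
      (biprod.inr : B ⟶ A ⊞ B).app W ((biprod.snd : A ⊞ B ⟶ B).app W z) := fun z =>
    (congrArg (fun φ : A ⊞ B ⟶ A ⊞ B => φ.app W z) (biprod.total (X := A) (Y := B))).symm
  rw [key x, key y, e₁, e₂]

theorem mvG_app {W : X.Opens} (x : Γ(pr U₀ E ⊞ pr U₁ E, W)) :
    val ((mvG E U₀ U₁ U₀₁ h₀ h₁).app W x) =
      resM E (im_mono h₁ le_rfl) (val ((biprod.snd : pr U₀ E ⊞ pr U₁ E ⟶ _).app W x)) -
        resM E (im_mono h₀ le_rfl) (val ((biprod.fst : pr U₀ E ⊞ pr U₁ E ⟶ _).app W x)) := by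
  rw [mvG, biprod.desc_eq, sub_eq_neg_add, Preadditive.comp_neg]
  rfl

theorem comp_app' {A B C : X.Modules} (f : A ⟶ B) (g : B ⟶ C) (W : X.Opens) (x : Γ(A, W)) :
    (f ≫ g).app W x = g.app W (f.app W x) := rfl

theorem neg_app' {A B : X.Modules} (f : A ⟶ B) (W : X.Opens) (x : Γ(A, W)) :
    (-f).app W x = -(f.app W x) := rfl

theorem val_neg {U W : X.Opens} {M : X.Modules} (x : Γ(pr U M, W)) : val (-x) = -val x := rfl

theorem inr_mvG {W : X.Opens} (z : Γ(pr U₁ E, W)) :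
    val ((mvG E U₀ U₁ U₀₁ h₀ h₁).app W ((biprod.inr : pr U₁ E ⟶ pr U₀ E ⊞ pr U₁ E).app W z)) =
      resM E (im_mono h₁ le_rfl) (val z) := by
  rw [← comp_app', mvG, biprod.inr_desc, val_rmap]

theorem inl_mvG {W : X.Opens} (z : Γ(pr U₀ E, W)) :
    val ((mvG E U₀ U₁ U₀₁ h₀ h₁).app W ((biprod.inl : pr U₀ E ⟶ pr U₀ E ⊞ pr U₁ E).app W z)) =
      -resM E (im_mono h₀ le_rfl) (val z) := by
  rw [← comp_app', mvG, biprod.inl_desc, neg_app', val_neg, val_rmap]

theorem fst_mvF {W : X.Opens} (a : Γ(E, W)) :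
    val ((biprod.fst : pr U₀ E ⊞ pr U₁ E ⟶ _).app W ((mvF E U₀ U₁).app W a)) = resM E (im_le U₀ W) a := by
  rw [← comp_app', mvF, biprod.lift_fst, val_unit]

theorem snd_mvF {W : X.Opens} (a : Γ(E, W)) :
    val ((biprod.snd : pr U₀ E ⊞ pr U₁ E ⟶ _).app W ((mvF E U₀ U₁).app W a)) = resM E (im_le U₁ W) a := by
  rw [← comp_app', mvF, biprod.lift_snd, val_unit]

variable (hcov : U₀ ⊔ U₁ = ⊤) (h01 : U₀ ⊓ U₁ ≤ U₀₁)

include hcov in
theorem mem_or (y : X) : y ∈ U₀ ∨ y ∈ U₁ := by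
  have : y ∈ U₀ ⊔ U₁ := hcov ▸ Opens.mem_top y
  exact this

section SE
attribute [local irreducible] mvF mvG

set_option maxHeartbeats 400000 in
include hcov h01 in
theorem mv_shortExact : (mv E U₀ U₁ U₀₁ h₀ h₁).ShortExact := by
  have hmono : Mono (mvF E U₀ U₁) := MeroLib.mono_of_app_injective _ fun W => fun a b e => by
    refine TopCat.Sheaf.eq_of_locally_eq' ⟨E.presheaf, E.isSheaf⟩ (fun i : Bool => cond i (im U₀ W) (im U₁ W)) W
      (fun i => homOfLE (by cases i <;> exact im_le _ _)) (fun y hy => ?_) a b fun i => ?_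
    · rcases mem_or U₀ U₁ hcov y with h | h
      · exact Opens.mem_iSup.2 ⟨true, (im_eq U₀ W).symm ▸ (⟨h, hy⟩ : y ∈ U₀ ⊓ W)⟩
      · exact Opens.mem_iSup.2 ⟨false, (im_eq U₁ W).symm ▸ (⟨h, hy⟩ : y ∈ U₁ ⊓ W)⟩
    · cases i
      · have h := congrArg (fun z => val ((biprod.snd : pr U₀ E ⊞ pr U₁ E ⟶ _).app W z)) e
        exact ((snd_mvF E U₀ U₁ a).symm.trans h).trans (snd_mvF E U₀ U₁ b)
      · have h := congrArg (fun z => val ((biprod.fst : pr U₀ E ⊞ pr U₁ E ⟶ _).app W z)) e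
        exact ((fst_mvF E U₀ U₁ a).symm.trans h).trans (fst_mvF E U₀ U₁ b)
  have hepi : Epi (mvG E U₀ U₁ U₀₁ h₀ h₁) := epi_of_locally_surjective _ fun W c y hy => by
    rcases mem_or U₀ U₁ hcov y with h | h
    · refine ⟨W ⊓ U₀, inf_le_left, ⟨hy, h⟩, ?_⟩
      have hle : im U₁ (W ⊓ U₀) ≤ im U₀₁ W :=
        le_im ((le_inf ((im_le _ _).trans inf_le_right) (im_le_left _ _)).trans h01) ((im_le _ _).trans inf_le_left)
      refine ⟨(biprod.inr : pr U₁ E ⟶ pr U₀ E ⊞ pr U₁ E).app (W ⊓ U₀) (mkSec (resM E hle (val c))), ?_⟩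
      refine val_injective ((inr_mvG E U₀ U₁ U₀₁ h₀ h₁ _).trans ?_)
      rw [val_res, val_mkSec, resM_resM]
    · refine ⟨W ⊓ U₁, inf_le_left, ⟨hy, h⟩, ?_⟩
      have hle : im U₀ (W ⊓ U₁) ≤ im U₀₁ W :=
        le_im ((le_inf (im_le_left _ _) ((im_le _ _).trans inf_le_right)).trans h01) ((im_le _ _).trans inf_le_left)
      refine ⟨(biprod.inl : pr U₀ E ⟶ pr U₀ E ⊞ pr U₁ E).app (W ⊓ U₁) (mkSec (-resM E hle (val c))), ?_⟩
      refine val_injective ((inl_mvG E U₀ U₁ U₀₁ h₀ h₁ _).trans ?_)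
      rw [val_res, val_mkSec, map_neg, neg_neg, resM_resM]
  haveI := hmono
  refine { exact := ?_, mono_f := hmono, epi_g := hepi }
  let l : E ⟶ kernel (mvG E U₀ U₁ U₀₁ h₀ h₁) := kernel.lift _ (mvF E U₀ U₁) (mv_zero E U₀ U₁ U₀₁ h₀ h₁)
  haveI : Epi l := epi_of_locally_surjective _ fun W c y hy => by
    let p := (kernel.ι (mvG E U₀ U₁ U₀₁ h₀ h₁)).app W c
    have hp : (mvG E U₀ U₁ U₀₁ h₀ h₁).app W p = 0 := by
      rw [← comp_app', kernel.condition]
      rfl
    have hp' := congrArg val hp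
    rw [mvG_app] at hp'
    change _ - _ = (0 : Γ(E, im U₀₁ W)) at hp'
    rw [sub_eq_zero] at hp'
    set a₀ := val ((biprod.fst : pr U₀ E ⊞ pr U₁ E ⟶ _).app W p) with ha₀
    set a₁ := val ((biprod.snd : pr U₀ E ⊞ pr U₁ E ⟶ _).app W p) with ha₁
    have fin : ∀ (W' : X.Opens) (hW : W' ≤ W) (b : Γ(E, W')),
        resM E (im_le U₀ W') b = resM E (im_mono le_rfl hW) a₀ →
        resM E (im_le U₁ W') b = resM E (im_mono le_rfl hW) a₁ →
        l.app W' b = resM (kernel (mvG E U₀ U₁ U₀₁ h₀ h₁)) hW c := fun W' hW b e₀ e₁ => by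
      refine app_injective_of_mono (kernel.ι (mvG E U₀ U₁ U₀₁ h₀ h₁)) W' ?_
      rw [← comp_app', kernel.lift_ι, app_resM]
      refine biprod_sec_ext (A := pr U₀ E) (B := pr U₁ E) ?_ ?_ <;> refine val_injective ?_
      · rw [fst_mvF, e₀, ha₀, app_resM (biprod.fst : pr U₀ E ⊞ pr U₁ E ⟶ pr U₀ E), val_res]
      · rw [snd_mvF, e₁, ha₁, app_resM (biprod.snd : pr U₀ E ⊞ pr U₁ E ⟶ pr U₁ E), val_res]
    rcases mem_or U₀ U₁ hcov y with h | h
    · refine ⟨W ⊓ U₀, inf_le_left, ⟨hy, h⟩, resM E (le_im inf_le_right inf_le_left) a₀,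
        fin _ _ _ (resM_resM _ _ _ _) ?_⟩
      have hle : im U₁ (W ⊓ U₀) ≤ im U₀₁ W :=
        le_im ((le_inf ((im_le _ _).trans inf_le_right) (im_le_left _ _)).trans h01) ((im_le _ _).trans inf_le_left)
      have := congrArg (resM E hle) hp'
      rw [resM_resM, resM_resM] at this
      rw [resM_resM]
      exact this.symm
    · refine ⟨W ⊓ U₁, inf_le_left, ⟨hy, h⟩, resM E (le_im inf_le_right inf_le_left) a₁,
        fin _ _ _ ?_ (resM_resM _ _ _ _)⟩
      have hle : im U₀ (W ⊓ U₁) ≤ im U₀₁ W :=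
        le_im ((le_inf (im_le_left _ _) ((im_le _ _).trans inf_le_right)).trans h01) ((im_le _ _).trans inf_le_left)
      have := congrArg (resM E hle) hp'
      rw [resM_resM, resM_resM] at this
      rw [resM_resM]
      exact this
  exact (ShortComplex.exact_iff_epi_kernel_lift (mv E U₀ U₁ U₀₁ h₀ h₁)).2 ‹Epi l›

end SE

end MV

section Vanishing

/-- lifting out of a finite free module on an affine scheme -/
theorem exists_free_lift {Y : Scheme.{u}} [IsAffine Y] {S : ShortComplex Y.Modules} (hS : S.ShortExact)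
    [Coh.IsQCoh S.X₁] {n : ℕ} (φ : FlatMod.freeMod Y n ⟶ S.X₃) : ∃ ψ, ψ ≫ S.g = φ := by
  choose b hb using fun i : Fin n =>
    sections_surjective hS (isAffineOpen_top Y) (unitVal (Sigma.ι (fun _ => Coh.structureModule Y) i ≫ φ) ⊤)
  refine ⟨Sigma.desc fun i => unitDesc S.X₂ (b i), Sigma.hom_ext _ _ fun i => ?_⟩
  rw [Sigma.ι_desc_assoc]
  refine Scheme.Modules.hom_ext _ _ fun V => ConcreteCategory.hom_ext _ _ fun r => ?_
  refine (app_unit _ r).trans (Eq.trans ?_ (app_unit _ r).symm)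
  rw [← resM_unitVal _ (le_top : V ≤ ⊤), ← resM_unitVal _ (le_top : V ≤ ⊤)]
  refine congrArg (fun z => (show Γ(Y, V) from r) • z) (congrArg (resM _ _) ((congrArg (S.g.app ⊤) ?_).trans (hb i)))
  exact (unitVal_unitDesc _ (b i) ⊤).trans (resM_refl _ _)

variable {E : X.Modules} [Coh.IsQCoh E]

theorem ext_pr_eq_zero {U : X.Opens} (hU : IsAffineOpen U) {n : ℕ}
    (e : E.restrict U.ι ≅ FlatMod.freeMod ↑U n) (η : Ext E (pr U E) 1) : η = 0 := by
  obtain ⟨L, u, v, w, h, hη⟩ := Groth.Agent.Et18.ExtRealize.exists_extClass_eq η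
  let R := Scheme.Modules.restrictFunctor U.ι
  haveI : IsAffine (↑U : Scheme.{u}) := hU
  let adj := Scheme.Modules.restrictAdjunction U.ι
  have hR : ((ShortComplex.mk u v w).map R).ShortExact := h.map_of_exact R
  haveI : Coh.IsQCoh ((ShortComplex.mk u v w).map R).X₁ := by
    haveI : Coh.IsQCoh (R.obj E) := inferInstanceAs (Coh.IsQCoh ((Scheme.Modules.restrictFunctor U.ι).obj E))
    haveI : Coh.IsQCoh ((𝟭 (↑U : Scheme.{u}).Modules).obj (E.restrict U.ι)) := inferInstanceAs (Coh.IsQCoh (R.obj E))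
    exact isQCoh_of_iso (asIso (adj.counit.app (E.restrict U.ι))).symm
  obtain ⟨ψ, hψ⟩ := exists_free_lift hR e.inv
  have hs : (e.hom ≫ ψ) ≫ R.map v = 𝟙 _ := by
    rw [Category.assoc]
    exact (congrArg (e.hom ≫ ·) hψ).trans e.hom_inv_id
  haveI := hR.mono_f
  let σ := ShortComplex.Splitting.ofExactOfSection _ hR.exact (e.hom ≫ ψ) hs hR.mono_f
  let r : L ⟶ pr U E := adj.homEquiv L (E.restrict U.ι) (σ.r ≫ adj.counit.app (E.restrict U.ι))
  have hr : u ≫ r = 𝟙 _ := by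
    apply (adj.homEquiv _ _).symm.injective
    rw [adj.homEquiv_naturality_left_symm, Equiv.symm_apply_apply, adj.homEquiv_counit,
      CategoryTheory.Functor.map_id, Category.id_comp, ← Category.assoc]
    exact (congrArg (· ≫ adj.counit.app (E.restrict U.ι)) σ.f_r).trans (Category.id_comp _)
  haveI := h.epi_g
  let τ := ShortComplex.Splitting.ofExactOfRetraction _ h.exact r hr h.epi_g
  have h0 := congrArg (fun z => (Ext.mk₀ τ.s).comp z (zero_add 1)) h.comp_extClass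
  rw [← hη]
  have := h.comp_extClass
  calc h.extClass = (Ext.mk₀ (𝟙 E)).comp h.extClass (zero_add 1) := (Ext.mk₀_id_comp _).symm
    _ = ((Ext.mk₀ τ.s).comp (Ext.mk₀ v) (zero_add 0)).comp h.extClass (zero_add 1) := by
      rw [Ext.mk₀_comp_mk₀]; exact congrArg (fun z => (Ext.mk₀ z).comp h.extClass (zero_add 1)) τ.s_g.symm
    _ = (Ext.mk₀ τ.s).comp ((Ext.mk₀ v).comp h.extClass (zero_add 1)) (zero_add 1) :=
      Ext.comp_assoc _ _ _ _ _ (by omega)
    _ = 0 := by rw [this, Ext.comp_zero]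

variable (U₀ U₁ U₀₁ : X.Opens) (h₀ : U₀₁ ≤ U₀) (h₁ : U₀₁ ≤ U₁) (hcov : U₀ ⊔ U₁ = ⊤) (h01 : U₀ ⊓ U₁ ≤ U₀₁)

/-- the connecting map -/
noncomputable def delta : (E ⟶ pr U₀₁ E) →+ Ext E E 1 :=
  AddMonoidHom.mk' (fun φ => (Ext.mk₀ φ).comp (mv_shortExact E U₀ U₁ U₀₁ h₀ h₁ hcov h01).extClass (zero_add 1))
    fun φ ψ => by rw [Ext.mk₀_add, Ext.add_comp]

theorem delta_surjective (hU₀ : IsAffineOpen U₀) (hU₁ : IsAffineOpen U₁) {n : ℕ}
    (e₀ : E.restrict U₀.ι ≅ FlatMod.freeMod ↑U₀ n) (e₁ : E.restrict U₁.ι ≅ FlatMod.freeMod ↑U₁ n) :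
    Function.Surjective (delta (E := E) U₀ U₁ U₀₁ h₀ h₁ hcov h01) := fun η => by
  have hη : η.comp (Ext.mk₀ (mv E U₀ U₁ U₀₁ h₀ h₁).f) (add_zero 1) = 0 := by
    generalize hz : η.comp (Ext.mk₀ (mv E U₀ U₁ U₀₁ h₀ h₁).f) (add_zero 1) = z
    rw [← Ext.comp_mk₀_id (show Ext E (pr U₀ E ⊞ pr U₁ E) 1 from z),
      ← biprod.total (X := pr U₀ E) (Y := pr U₁ E), Ext.mk₀_add, Ext.comp_add,
      ← Ext.mk₀_comp_mk₀, ← Ext.mk₀_comp_mk₀,
      ← Ext.comp_assoc _ _ _ (add_zero 1) (zero_add 0) (by omega),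
      ← Ext.comp_assoc _ _ _ (add_zero 1) (zero_add 0) (by omega),
      ext_pr_eq_zero hU₀ e₀ ((show Ext E (pr U₀ E ⊞ pr U₁ E) 1 from z).comp (Ext.mk₀ biprod.fst) (add_zero 1)),
      ext_pr_eq_zero hU₁ e₁ ((show Ext E (pr U₀ E ⊞ pr U₁ E) 1 from z).comp (Ext.mk₀ biprod.snd) (add_zero 1)),
      Ext.zero_comp, Ext.zero_comp, add_zero]
  obtain ⟨x, hx⟩ := Ext.covariant_sequence_exact₁ E (mv_shortExact E U₀ U₁ U₀₁ h₀ h₁ hcov h01) η hη (zero_add 1)
  obtain ⟨φ, rfl⟩ := (Ext.mk₀_bijective _ _).2 x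
  exact ⟨φ, hx⟩

theorem delta_eq_zero_iff (φ : E ⟶ pr U₀₁ E) :
    delta (E := E) U₀ U₁ U₀₁ h₀ h₁ hcov h01 φ = 0 ↔
      ∃ (φ₀ : E ⟶ pr U₀ E) (φ₁ : E ⟶ pr U₁ E), φ = φ₁ ≫ rmap E h₁ - φ₀ ≫ rmap E h₀ := by
  constructor
  · intro hφ
    obtain ⟨x, hx⟩ := Ext.covariant_sequence_exact₃ E (mv_shortExact E U₀ U₁ U₀₁ h₀ h₁ hcov h01) _ (zero_add 1) hφ
    obtain ⟨ψ, rfl⟩ := (Ext.mk₀_bijective _ _).2 x
    rw [Ext.mk₀_comp_mk₀] at hx
    have h := (Ext.mk₀_bijective _ _).1 hx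
    refine ⟨ψ ≫ biprod.fst, ψ ≫ biprod.snd, h.symm.trans ?_⟩
    show ψ ≫ biprod.desc (-rmap E h₀) (rmap E h₁) = _
    rw [biprod.desc_eq, Preadditive.comp_add, Preadditive.comp_neg, Preadditive.comp_neg, Category.assoc,
      Category.assoc, neg_add_eq_sub]
  · rintro ⟨φ₀, φ₁, rfl⟩
    have h : φ₁ ≫ rmap E h₁ - φ₀ ≫ rmap E h₀ =
        biprod.lift φ₀ φ₁ ≫ (mv E U₀ U₁ U₀₁ h₀ h₁).g := by
      show _ = biprod.lift φ₀ φ₁ ≫ biprod.desc (-rmap E h₀) (rmap E h₁)
      rw [biprod.lift_desc, Preadditive.comp_neg, neg_add_eq_sub]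
    show (Ext.mk₀ _).comp (mv_shortExact E U₀ U₁ U₀₁ h₀ h₁ hcov h01).extClass (zero_add 1) = 0
    rw [h, ← Ext.mk₀_comp_mk₀, Ext.comp_assoc _ _ _ (zero_add 0) (zero_add 1) (by omega),
      ShortComplex.ShortExact.comp_extClass, Ext.comp_zero]

end Vanishing

end Groth.Agent.CohDer1.DefoCech
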