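import Groth.Prelude.Def_DefoSh
import Groth.Prelude.Def_DefoSh2
import Groth.Prelude.Def_CohB1
import Groth.Agent.CohDer1.DefoCech.MV
import Groth.Agent.CohDer1.DefoCech.Cech
import Groth.Agent.Misc15.DefoExt
import Groth.Agent.Surf15.HomShIso

/-!
# First order deformations and Čech `H¹` of `End`
-/

set_option autoImplicit false
set_option backward.isDefEq.respectTransparency false
set_option backward.isDefEq.respectTransparency.types false

universe u

open CategoryTheory CategoryTheory.Limits CategoryTheory.Abelian AlgebraicGeometry Opposite TopologicalSpace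
open Groth.Agent.Coherent Groth.Agent.Misc15.DefoConnAlg Groth.Agent.Misc15.DefoExt

namespace Groth.Agent.CohDer1.DefoCech

variable {k : Type u} [Field k] {X : Scheme.{u}} [X.Over (Spec (CommRingCat.of k))]

/-- deformations and extensions -/
theorem exists_firstOrder_equiv_ext (E : X.Modules) :
    ∃ e : DefoSh.FirstOrder k E ≃ Abelian.Ext E E 1, e (DefoSh.Defo.trivDual k E).cl = 0 := by
  choose ι hι using fun D : DefoSh.Defo E (ArtFun.Art.dual k k) => exists_ι D
  let cls : DefoSh.Defo E (ArtFun.Art.dual k k) → Abelian.Ext E E 1 := fun D => (shortExact D (ι D) (hι D)).extClass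
  have huniq : ∀ (D : DefoSh.Defo E (ArtFun.Art.dual k k)) (i : E ⟶ D.sheaf),
      D.π ≫ i = D.act (DualNumber.eps : DualNumber k) → i = ι D := by
    intro D i hi
    haveI := epi_π D
    exact (cancel_epi D.π).1 (hi.trans (hι D).symm)
  let f : DefoSh.FirstOrder k E → Abelian.Ext E E 1 :=
    Quotient.lift cls fun D D' ⟨e⟩ => extClass_eq_of_iso D D' e _ (hι D) _ (hι D')
  have hf : Function.Bijective f := by
    constructor
    · intro a b
      induction a using Quotient.inductionOn with
      | _ D =>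
        induction b using Quotient.inductionOn with
        | _ D' => exact fun h => Quotient.sound (iso_of_extClass_eq D D' _ (hι D) _ (hι D') h)
    · intro η
      obtain ⟨L, u, v, w, h, hη⟩ := Groth.Agent.Et18.ExtRealize.exists_extClass_eq η
      obtain ⟨D, hL, hπ, hu⟩ := exists_defo (k := k) u v w h
      refine ⟨D.cl, ?_⟩
      subst hL
      simp only [eqToHom_refl, Category.id_comp, Category.comp_id] at hπ hu
      subst hπ
      show (shortExact D (ι D) (hι D)).extClass = η
      obtain rfl := huniq D u hu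
      exact hη
  refine ⟨Equiv.ofBijective f hf, ?_⟩
  let T := DefoSh.Defo.trivDual k E
  show (shortExact T (ι T) (hι T)).extClass = 0
  exact extClass_eq_zero_of_section _ (biprod.inl : E ⟶ E ⊞ E) biprod.inl_fst

/-- quotient maps with the same kernel -/
theorem exists_addEquiv_of_kers {A B C : Type*} [AddCommGroup A] [AddCommGroup B] [AddCommGroup C]
    (f : A →+ B) (g : A →+ C) (hf : Function.Surjective f) (hg : Function.Surjective g)
    (h : ∀ a, f a = 0 ↔ g a = 0) : Nonempty (B ≃+ C) :=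
  ⟨((QuotientAddGroup.quotientKerEquivOfSurjective f hf).symm.trans
    (QuotientAddGroup.quotientAddEquivOfEq (M := f.ker) (N := g.ker) (AddSubgroup.ext h))).trans
      (QuotientAddGroup.quotientKerEquivOfSurjective g hg)⟩

theorem main (U : ULift.{u} (Fin 2) → X.Opens) (hU : ∀ i, IsAffineOpen (U i)) (hcov : ⨆ i, U i = ⊤)
    (E : X.Modules) (n : ℕ) (hfree : ∀ i, Nonempty (E.restrict (U i).ι ≅ FlatMod.freeMod ↑(U i) n)) :
    ∃ e : DefoSh.FirstOrder k E ≃ ↑(CohB1.cechH U (RefHull.homSh E E) 1),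
      e (DefoSh.Defo.trivDual k E).cl = 0 := by
  obtain ⟨η⟩ := Surf15.nonempty_homSh_iso E E
  have hmem : ∀ x : X, ∃ i, x ∈ U i := fun x => Opens.mem_iSup.1 (hcov ▸ Opens.mem_top x)
  haveI : Coh.IsQCoh E := CAlgH3.LocFreeFactor.isQCoh_of_finLocFree fun x => by
    obtain ⟨i, hi⟩ := hmem x
    exact ⟨U i, n, hi, hfree i⟩
  have hcov' : U i₀ ⊔ U i₁ = ⊤ := top_le_iff.1 (hcov.symm.le.trans (iSup_le fun i => by
    rcases eq_i i with rfl | rfl
    · exact le_sup_left
    · exact le_sup_right))
  -- sections of `homSh` as morphisms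
  let Φ : ∀ V : X.Opens, Γ(RefHull.homSh E E, V) →+ (E ⟶ pr V E) := fun V =>
    (psi E V).toAddMonoidHom.comp (show Γ(RefHull.homSh E E, V) →+ locHom E E V from (η.hom.app V).hom)
  have hΦ : ∀ V, Function.Bijective (Φ V) := fun V => (psi E V).bijective.comp
    (show Function.Bijective fun s => η.hom.app V s from Function.bijective_iff_has_inverse.2
      ⟨fun s => η.inv.app V s,
        fun s => ConcreteCategory.congr_hom (congrArg (fun φ : RefHull.homSh E E ⟶ RefHull.homSh E E => φ.app V) η.hom_inv_id) s,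
        fun s => ConcreteCategory.congr_hom (congrArg (fun φ : internalHom E E ⟶ internalHom E E => φ.app V) η.inv_hom_id) s⟩)
  have hΦres : ∀ {V W : X.Opens} (h : W ≤ V) (s : Γ(RefHull.homSh E E, V)),
      Φ W (resM (RefHull.homSh E E) h s) = Φ V s ≫ rmap E h := fun {V W} h s => by
    show psi E W (η.hom.app W (resM (RefHull.homSh E E) h s)) = psi E V (η.hom.app V s) ≫ rmap E h
    rw [app_resM, ← psi_res]
    rfl
  obtain ⟨e₀⟩ := hfree i₀
  obtain ⟨e₁⟩ := hfree i₁
  let f : Γ(RefHull.homSh E E, U01 U) →+ Abelian.Ext E E 1 :=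
    (delta (E := E) (U i₀) (U i₁) (U01 U) (U01_le0 U) (U01_le1 U) hcov' (le_U01 U)).comp (Φ (U01 U))
  have hf : Function.Surjective f :=
    (delta_surjective (E := E) (U i₀) (U i₁) (U01 U) (U01_le0 U) (U01_le1 U) hcov' (le_U01 U) (hU i₀) (hU i₁) e₀ e₁).comp
      (hΦ (U01 U)).surjective
  have hker : ∀ c, f c = 0 ↔ cls' k U (RefHull.homSh E E) c = 0 := fun c => by
    rw [cls'_eq_zero_iff]
    refine (delta_eq_zero_iff (E := E) (U i₀) (U i₁) (U01 U) (U01_le0 U) (U01_le1 U) hcov' (le_U01 U) _).trans ?_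
    constructor
    · rintro ⟨φ₀, φ₁, h⟩
      obtain ⟨b₀, rfl⟩ := (hΦ (U i₀)).surjective φ₀
      obtain ⟨b₁, rfl⟩ := (hΦ (U i₁)).surjective φ₁
      refine ⟨b₀, b₁, (hΦ (U01 U)).injective ?_⟩
      rw [map_sub, hΦres, hΦres]
      exact h
    · rintro ⟨b₀, b₁, rfl⟩
      exact ⟨Φ _ b₀, Φ _ b₁, by rw [map_sub, hΦres, hΦres]⟩
  obtain ⟨q⟩ := exists_addEquiv_of_kers f (cls' k U (RefHull.homSh E E)) hf
    (cls'_surjective k U (RefHull.homSh E E)) hker
  obtain ⟨e, he⟩ := exists_firstOrder_equiv_ext (k := k) E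
  refine ⟨e.trans q.toEquiv, ?_⟩
  show q (e _) = 0
  rw [he, map_zero]

end Groth.Agent.CohDer1.DefoCech
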